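import Mathlib
import Cfsg.Agent.H614.Spin.Defs
set_option linter.all false

/-!
# S4578, task G: the number of bars, valuations, and Lagrange interpolation (helper87)
-/

set_option autoImplicit false

namespace Cfsg.Agent.H614.Spin

open Finset

/-- the product of `(a - b) / (a + b)` over the pairs of a list -/
def ratio : List ℤ → ℚ
  | [] => 1
  | a :: L => (L.map fun b => ((a - b : ℤ) : ℚ) / ((a + b : ℤ) : ℚ)).prod * ratio L

/-- the number of pairs `i < j` with `q ∣ a_i + a_j` minus the number of pairs with `q ∣ a_i - a_j` -/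
def pairs (q : ℕ) : List ℤ → ℤ
  | [] => 0
  | a :: L => ((L.countP fun b => (q : ℤ) ∣ a + b : ℕ) : ℤ) - (L.countP fun b => (q : ℤ) ∣ a - b : ℕ) +
      pairs q L

/-- the number of bars of length divisible by `q` (`q` odd) -/
def wt (q : ℕ) (L : List ℤ) : ℤ := (L.map fun a => a / (q : ℤ)).sum + pairs q L

theorem Strict.tail {a : ℤ} {L : List ℤ} (h : Strict (a :: L)) : Strict L :=
  ⟨(List.pairwise_cons.1 h.1).2, fun b hb => h.2 b (List.mem_cons_of_mem _ hb)⟩

theorem Strict.head_pos {a : ℤ} {L : List ℤ} (h : Strict (a :: L)) : 0 < a := h.2 a List.mem_cons_self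

theorem Strict.head_gt {a : ℤ} {L : List ℤ} (h : Strict (a :: L)) {b : ℤ} (hb : b ∈ L) : b < a :=
  (List.pairwise_cons.1 h.1).1 b hb

theorem Strict.nodup {L : List ℤ} (h : Strict L) : L.Nodup := h.1.imp fun h => h.ne'

theorem wt_nil (q : ℕ) : wt q [] = 0 := rfl

theorem wt_cons (q : ℕ) (a : ℤ) (L : List ℤ) :
    wt q (a :: L) = a / (q : ℤ) + ((L.countP fun b => (q : ℤ) ∣ a + b : ℕ) : ℤ) -
      (L.countP fun b => (q : ℤ) ∣ a - b : ℕ) + wt q L := by
  unfold wt
  rw [List.map_cons, List.sum_cons, pairs]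
  ring

/-- at most `a / q` elements of a strict list below `a` are congruent to `a` -/
theorem countP_le {q : ℕ} {a : ℤ} {L : List ℤ} (hL : Strict (a :: L)) :
    ((L.countP fun b => (q : ℤ) ∣ a - b : ℕ) : ℤ) ≤ a / (q : ℤ) := by
  rcases Nat.eq_zero_or_pos q with rfl | hq
  · rw [List.countP_eq_zero.2]
    · simp
    · intro b hb
      have := hL.head_gt hb
      simp only [Nat.cast_zero, zero_dvd_iff, decide_eq_true_eq]
      omega
  have hq' : (0 : ℤ) < q := by exact_mod_cast hq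
  rw [List.countP_eq_length_filter]
  set M := L.filter fun b => (q : ℤ) ∣ a - b with hM
  have hMn : M.Nodup := hL.tail.nodup.filter _
  rw [← List.toFinset_card_of_nodup hMn]
  have hmem : ∀ b ∈ M.toFinset, 0 < b ∧ b < a ∧ (q : ℤ) ∣ a - b := by
    intro b hb
    rw [List.mem_toFinset, hM, List.mem_filter] at hb
    exact ⟨hL.2 b (List.mem_cons_of_mem _ hb.1), hL.head_gt hb.1, by simpa using hb.2⟩
  have h1 : #M.toFinset ≤ #(Finset.Icc (1 : ℤ) (a / q)) := by
    apply Finset.card_le_card_of_injOn (fun b => (a - b) / q)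
    · intro b hb
      obtain ⟨h1, h2, h3⟩ := hmem b hb
      simp only [Finset.coe_Icc, Set.mem_Icc]
      constructor
      · obtain ⟨k, hk⟩ := h3
        rw [hk, Int.mul_ediv_cancel_left _ hq'.ne']
        by_contra hk0
        have : k ≤ 0 := by omega
        nlinarith
      · exact Int.ediv_le_ediv hq' (by omega)
    · intro b hb b' hb' h
      obtain ⟨-, -, k, hk⟩ := hmem b hb
      obtain ⟨-, -, k', hk'⟩ := hmem b' hb'
      simp only at h
      rw [hk, hk', Int.mul_ediv_cancel_left _ hq'.ne', Int.mul_ediv_cancel_left _ hq'.ne'] at h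
      subst h
      omega
  have h2 : 0 ≤ a / (q : ℤ) := Int.ediv_nonneg hL.head_pos.le hq'.le
  have h3 : ((#(Finset.Icc (1 : ℤ) (a / q)) : ℕ) : ℤ) = a / q := by
    rw [Int.card_Icc]; omega
  calc ((#M.toFinset : ℕ) : ℤ) ≤ ((#(Finset.Icc (1 : ℤ) (a / q)) : ℕ) : ℤ) := by exact_mod_cast h1
    _ = a / q := h3

theorem wt_nonneg' {q : ℕ} {L : List ℤ} (hL : Strict L) : 0 ≤ wt q L := by
  induction L with
  | nil => exact le_rfl
  | cons a L ih =>
    rw [wt_cons]
    have h1 := countP_le (q := q) hL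
    have h2 := ih hL.tail
    have h3 : (0 : ℤ) ≤ ((L.countP fun b => (q : ℤ) ∣ a + b : ℕ) : ℤ) := Int.natCast_nonneg _
    linarith

theorem wt_nonneg {q : ℕ} (_hq : Odd q) {L : List ℤ} (hL : Strict L) : 0 ≤ wt q L := wt_nonneg' hL

/-! ### Valuations -/

/-- `∑_{i < j} (v (a_i + a_j) - v (a_i - a_j)) + ∑ v (a_i !)` -/
def vw (p : ℕ) : List ℤ → ℤ
  | [] => 0
  | a :: L => (a.toNat.factorial.factorization p : ℤ) +
      (L.map fun b => (((a + b).natAbs.factorization p : ℕ) : ℤ) - ((a - b).natAbs.factorization p : ℕ)).sum +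
      vw p L

theorem fact_eq_sum {p : ℕ} [hp : Fact p.Prime] {x : ℤ} (hx : x ≠ 0) {T : ℕ} (hT : x.natAbs < p ^ T) :
    (x.natAbs.factorization p : ℤ) = ∑ t ∈ Finset.Ico 1 T, (if ((p ^ t : ℕ) : ℤ) ∣ x then (1 : ℤ) else 0) := by
  have hx0 : x.natAbs ≠ 0 := Int.natAbs_ne_zero.2 hx
  rw [Finset.sum_boole]
  have h1 : (Finset.Ico 1 T).filter (fun t => ((p ^ t : ℕ) : ℤ) ∣ x) = Finset.Icc 1 (x.natAbs.factorization p) := by
    ext t
    rw [Finset.mem_filter, Finset.mem_Ico, Finset.mem_Icc, Int.natCast_dvd,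
      hp.out.pow_dvd_iff_le_factorization hx0]
    constructor
    · rintro ⟨⟨h1, h2⟩, h3⟩; exact ⟨h1, h3⟩
    · rintro ⟨h1, h2⟩
      refine ⟨⟨h1, ?_⟩, h2⟩
      have h3 : p ^ t ∣ x.natAbs := (hp.out.pow_dvd_iff_le_factorization hx0).2 h2
      have h4 := Nat.le_of_dvd (Nat.pos_of_ne_zero hx0) h3
      exact (Nat.pow_lt_pow_iff_right hp.out.one_lt).1 (lt_of_le_of_lt h4 hT)
  rw [h1, Nat.card_Icc]
  simp

theorem fact_factorial {p : ℕ} [hp : Fact p.Prime] {a : ℤ} (ha : 0 < a) {T : ℕ} (hT : a.toNat < p ^ T) :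
    (a.toNat.factorial.factorization p : ℤ) = ∑ t ∈ Finset.Ico 1 T, a / ((p ^ t : ℕ) : ℤ) := by
  have h1 : Nat.log p a.toNat < T := Nat.log_lt_of_lt_pow (by omega) hT
  rw [Nat.factorization_def _ hp.out, padicValNat_factorial h1]
  push_cast
  refine Finset.sum_congr rfl fun t _ => ?_
  rw [Int.toNat_of_nonneg ha.le]

theorem sum_countP {p : ℕ} [hp : Fact p.Prime] (f : ℤ → ℤ) {L : List ℤ} {T : ℕ} (hf : ∀ b ∈ L, f b ≠ 0)
    (hT : ∀ b ∈ L, (f b).natAbs < p ^ T) :
    ∑ t ∈ Finset.Ico 1 T, ((L.countP fun b => ((p ^ t : ℕ) : ℤ) ∣ f b : ℕ) : ℤ) =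
      (L.map fun b => (((f b).natAbs.factorization p : ℕ) : ℤ)).sum := by
  induction L with
  | nil => simp
  | cons b L ih =>
    rw [List.map_cons, List.sum_cons, ← ih (fun c hc => hf c (List.mem_cons_of_mem _ hc))
      (fun c hc => hT c (List.mem_cons_of_mem _ hc)), fact_eq_sum (hf b List.mem_cons_self) (hT b List.mem_cons_self),
      ← Finset.sum_add_distrib]
    refine Finset.sum_congr rfl fun t _ => ?_
    rw [List.countP_cons]
    push_cast
    by_cases h : ((p : ℤ) ^ t) ∣ f b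
    · simp [h]; ring
    · simp [h]

theorem vw_eq {p : ℕ} [hp : Fact p.Prime] {L : List ℤ} (hL : Strict L) {T : ℕ} (hT : 2 * L.sum < (p ^ T : ℕ)) :
    vw p L = ∑ t ∈ Finset.Ico 1 T, wt (p ^ t) L := by
  induction L with
  | nil => simp [vw, wt_nil]
  | cons a L ih =>
    have ha := hL.head_pos
    have hs : ∀ b ∈ L, b ≤ L.sum := fun b hb => List.single_le_sum (fun c hc => (hL.tail.2 c hc).le) b hb
    have hs0 : 0 ≤ L.sum := List.sum_nonneg fun c hc => (hL.tail.2 c hc).le
    rw [List.sum_cons] at hT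
    have h1 : ∀ b ∈ L, (a + b).natAbs < p ^ T := by
      intro b hb
      have := hs b hb
      have := hL.tail.2 b hb
      have e : ((a + b).natAbs : ℤ) < (p ^ T : ℕ) := by
        rw [Int.natCast_natAbs, abs_of_pos (by omega)]; omega
      exact_mod_cast e
    have h2 : ∀ b ∈ L, (a - b).natAbs < p ^ T := by
      intro b hb
      have := hL.head_gt hb
      have := hL.tail.2 b hb
      have e : ((a - b).natAbs : ℤ) < (p ^ T : ℕ) := by
        rw [Int.natCast_natAbs, abs_of_pos (by omega)]; omega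
      exact_mod_cast e
    have h3 : a.toNat < p ^ T := by
      have e : (a.toNat : ℤ) < (p ^ T : ℕ) := by
        rw [Int.toNat_of_nonneg ha.le]; omega
      exact_mod_cast e
    rw [vw, ih hL.tail (by omega)]
    simp only [wt_cons]
    rw [Finset.sum_add_distrib, Finset.sum_sub_distrib, Finset.sum_add_distrib, ← fact_factorial ha h3,
      sum_countP (fun b => a + b) (fun b hb => by have := hL.tail.2 b hb; omega) h1,
      sum_countP (fun b => a - b) (fun b hb => by have := hL.head_gt hb; omega) h2]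
    have e : ∀ (f g : ℤ → ℤ) (M : List ℤ), (M.map fun b => f b - g b).sum = (M.map f).sum - (M.map g).sum := by
      intro f g M
      induction M with
      | nil => simp
      | cons c M ih => rw [List.map_cons, List.sum_cons, ih, List.map_cons, List.map_cons, List.sum_cons, List.sum_cons]; ring
    rw [e (fun b => (((a + b).natAbs.factorization p : ℕ) : ℤ)) (fun b => (((a - b).natAbs.factorization p : ℕ) : ℤ))]
    ring

/-- one of the summands -/
theorem wt_le_vw {p : ℕ} [hp : Fact p.Prime] {L : List ℤ} (hL : Strict L) : wt p L ≤ vw p L := by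
  obtain ⟨T, hT⟩ : ∃ T : ℕ, 2 * L.sum < (p ^ T : ℕ) ∧ 2 ≤ T := by
    refine ⟨(2 * L.sum).toNat + 2, ?_, by omega⟩
    have h1 : (2 * L.sum).toNat + 2 < p ^ ((2 * L.sum).toNat + 2) := Nat.lt_pow_self hp.out.one_lt
    omega
  rw [vw_eq hL hT.1]
  have h1 : (1 : ℕ) ∈ Finset.Ico 1 T := by rw [Finset.mem_Ico]; omega
  rw [← Finset.add_sum_erase _ _ h1, pow_one]
  have h2 : 0 ≤ ∑ t ∈ (Finset.Ico 1 T).erase 1, wt (p ^ t) L := Finset.sum_nonneg fun t _ => wt_nonneg' hL
  linarith

/-! ### Lagrange interpolation -/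

/-- the factor of the pair `x`, `y` -/
def phi (x y : ℤ) : ℚ := (((x - y - 1) * (x + y) : ℤ) : ℚ) / (((x + y - 1) * (x - y) : ℤ) : ℚ)

theorem lagrange (s : Finset ℤ) (hs : ∀ x ∈ s, 0 < x) :
    ∑ x ∈ s, (x : ℚ) * ∏ y ∈ s.erase x, phi x y = ∑ x ∈ s, (x : ℚ) := by
  rcases s.eq_empty_or_nonempty with rfl | hne
  · simp
  let v : ℤ → ℚ := fun x => (x : ℚ) * (x - 1)
  let b : ℤ → ℚ := fun x => (x : ℚ) * (x + 1)
  have hv : Set.InjOn v s := by
    intro x hx y hy h
    have hx' := hs x hx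
    have hy' := hs y hy
    have h1 : (x : ℚ) * (x - 1) = (y : ℚ) * (y - 1) := h
    have h2 : x * (x - 1) = y * (y - 1) := by exact_mod_cast h1
    have h3 : (x - y) * (x + y - 1) = 0 := by linarith
    rcases mul_eq_zero.1 h3 with h4 | h4 <;> omega
  have hc : 0 < #s := hne.card_pos
  let P : Polynomial ℚ := ∏ k ∈ s, (Polynomial.X - Polynomial.C (b k)) - ∏ k ∈ s, (Polynomial.X - Polynomial.C (v k))
  have hm : ∀ f : ℤ → ℚ, (∏ k ∈ s, (Polynomial.X - Polynomial.C (f k))).degree = ((#s : ℕ) : WithBot ℕ) := by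
    intro f
    rw [Polynomial.degree_prod]
    simp
  have hP : P.degree < #s := by
    have h1 := Polynomial.degree_sub_lt_left (p := ∏ k ∈ s, (Polynomial.X - Polynomial.C (b k)))
      (q := ∏ k ∈ s, (Polynomial.X - Polynomial.C (v k))) (by rw [hm, hm])
      (Polynomial.Monic.ne_zero (Polynomial.monic_prod_X_sub_C _ _))
      (by rw [(Polynomial.monic_prod_X_sub_C _ _).leadingCoeff, (Polynomial.monic_prod_X_sub_C _ _).leadingCoeff])
    rwa [hm] at h1
  have h1 := Lagrange.coeff_eq_sum hv hP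
  have h2 : P.coeff (#s - 1) = -2 * ∑ x ∈ s, (x : ℚ) := by
    show (_ - _ : Polynomial ℚ).coeff _ = _
    rw [Polynomial.coeff_sub, Polynomial.prod_X_sub_C_coeff_card_pred _ _ hc,
      Polynomial.prod_X_sub_C_coeff_card_pred _ _ hc, ← Finset.sum_neg_distrib, ← Finset.sum_neg_distrib,
      ← Finset.sum_sub_distrib, Finset.mul_sum]
    refine Finset.sum_congr rfl fun x _ => ?_
    show -((x : ℚ) * (x + 1)) - -((x : ℚ) * (x - 1)) = _
    ring
  have h3 : ∀ x ∈ s, P.eval (v x) / ∏ j ∈ s.erase x, (v x - v j) = -2 * ((x : ℚ) * ∏ y ∈ s.erase x, phi x y) := by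
    intro x hx
    have e1 : P.eval (v x) = (v x - b x) * ∏ j ∈ s.erase x, (v x - b j) := by
      show (_ - _ : Polynomial ℚ).eval _ = _
      rw [Polynomial.eval_sub, Polynomial.eval_prod, Polynomial.eval_prod]
      simp only [Polynomial.eval_sub, Polynomial.eval_X, Polynomial.eval_C]
      have e0 : ∏ k ∈ s, (v x - v k) = 0 := Finset.prod_eq_zero hx (sub_self _)
      rw [e0, sub_zero, ← Finset.mul_prod_erase _ _ hx]
    rw [e1, mul_div_assoc, ← Finset.prod_div_distrib]
    have e2 : v x - b x = -2 * x := by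
      show (x : ℚ) * (x - 1) - (x : ℚ) * (x + 1) = _
      ring
    rw [e2, mul_assoc]
    congr 2
    refine Finset.prod_congr rfl fun y _ => ?_
    show ((x : ℚ) * (x - 1) - (y : ℚ) * (y + 1)) / ((x : ℚ) * (x - 1) - (y : ℚ) * (y - 1)) = phi x y
    unfold phi
    congr 1
    · push_cast; ring
    · push_cast; ring
  rw [h2, Finset.sum_congr rfl h3, ← Finset.mul_sum] at h1
  exact (mul_left_cancel₀ (by norm_num) h1).symm

end Cfsg.Agent.H614.Spin
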